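import Mathlib
import Cfsg.Agent.H722.RealP
import Cfsg.Agent.J2Type.SylowSeven
import Cfsg.Prelude.Def_SporadicB
import Cfsg.Agent.FastGrp
import Cfsg.Agent.Prune
set_option linter.all false

section
prune_inst 0x7f00000000000000000000000000000000000000000000000000000000000000000000000000000000000000000000000000000000000000000000000000000000000000000000000000000000000000003fffffffffffffffffffffffffffbeffbdffffffff

-- part: H661/SporBase
section
set_option linter.all false
open scoped Cfsg.Agent.FastGrp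

/-!
# Real elements of an odd prime order `r` with `r ∥ |S|`

`P1 S`: some odd prime `r` divides `|S|` exactly once and `S` has a real element of order `r`.
For a simple group and a Fermat prime `r ∥ |S|` this is Burnside's transfer theorem.
-/

set_option autoImplicit false

namespace Cfsg.Agent.H661.Spor

open Subgroup H722.RealP

/-- Some odd prime `r` divides `|S|` exactly once and `S` has a real element of order `r`. -/
def P1 (S : Type*) [Group S] : Prop :=
  ∃ r : ℕ, r.Prime ∧ r ≠ 2 ∧ ¬ r ^ 2 ∣ Nat.card S ∧ ∃ x : S, orderOf x = r ∧ IsConj x x⁻¹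

theorem P1.of_hasReal {S : Type*} [Group S] {r : ℕ} (hr : r.Prime) (h2 : r ≠ 2)
    (h : ¬ r ^ 2 ∣ Nat.card S) (hR : HasReal r S) : P1 S :=
  ⟨r, hr, h2, h, hR.isConj⟩

theorem P1.congr {S T : Type*} [Group S] [Group T] (e : S ≃* T) (h : P1 S) : P1 T := by
  obtain ⟨r, hr, h2, hc, x, hx, hxc⟩ := h
  refine ⟨r, hr, h2, by rwa [← Nat.card_congr e.toEquiv], e x, by rw [MulEquiv.orderOf_eq, hx], ?_⟩
  rw [← map_inv]
  exact MonoidHom.map_isConj e.toMonoidHom hxc

/-- In a simple group with a Sylow `r`-subgroup `P` of prime order, `P` has an element of `N(P)` outside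
`C(P)`, unless the group is `P`. -/
theorem exists_not_centralizer {G : Type*} [Group G] [Finite G] [IsSimpleGroup G] {r : ℕ} [Fact r.Prime]
    (P : Sylow r G) (h1 : r ∣ Nat.card G) (hG : Nat.card G ≠ Nat.card P) :
    ∃ g ∈ normalizer ((P : Subgroup G) : Set G), g ∉ centralizer ((P : Subgroup G) : Set G) := by
  by_contra hno
  push Not at hno
  have hle : normalizer ((P : Subgroup G) : Set G) ≤ centralizer ((P : Subgroup G) : Set G) := hno
  have hcomp := MonoidHom.ker_transferSylow_isComplement' P hle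
  have hcard := hcomp.card_mul_card
  have hnd := MonoidHom.not_dvd_card_ker_transferSylow P hle
  rcases (MonoidHom.normal_ker (MonoidHom.transferSylow P hle)).eq_bot_or_eq_top with h | h
  · rw [h, card_bot, one_mul] at hcard
    exact hG hcard.symm
  · rw [h, card_top] at hnd
    exact hnd h1

theorem card_sylow_eq {G : Type*} [Group G] [Finite G] {r : ℕ} [Fact r.Prime] (P : Sylow r G)
    (h1 : r ∣ Nat.card G) (h2 : ¬ r ^ 2 ∣ Nat.card G) : Nat.card P = r := by
  obtain ⟨n, hn⟩ := (IsPGroup.iff_card (p := r)).1 P.isPGroup'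
  have hn1 : n < 2 := by
    by_contra hge
    exact h2 ((pow_dvd_pow r (not_lt.1 hge)).trans (hn ▸ Subgroup.card_subgroup_dvd_card _))
  have hn0 : n ≠ 0 := by
    rintro rfl
    have hidx := (P : Subgroup G).card_mul_index
    rw [hn, pow_zero, one_mul] at hidx
    exact P.not_dvd_index (hidx ▸ h1)
  have : n = 1 := by omega
  rw [hn, this, pow_one]

/-- A simple group whose order is divisible exactly once by a Fermat prime `r` (and is not `r`) has a real
element of order `r`. -/
theorem hasReal_fermat {G : Type*} [Group G] [Finite G] [IsSimpleGroup G] {r k : ℕ} (hr : r.Prime)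
    (hk : r = 2 ^ k + 1) (h1 : r ∣ Nat.card G) (h2 : ¬ r ^ 2 ∣ Nat.card G) (hG : Nat.card G ≠ r) :
    HasReal r G := by
  have : Fact r.Prime := ⟨hr⟩
  obtain ⟨P⟩ : Nonempty (Sylow r G) := inferInstance
  have hPc : Nat.card P = r := card_sylow_eq P h1 h2
  obtain ⟨g, hgN, hgC⟩ := exists_not_centralizer P h1 (by rwa [hPc])
  -- conjugation by `g` as an automorphism of `P`
  let φ : MulAut P := normalizerMonoidHom (P : Subgroup G) ⟨g, hgN⟩
  have hφ : ∀ y : P, ((φ y : P) : G) = g * (y : G) * g⁻¹ := fun y => rfl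
  have : IsCyclic P := isCyclic_of_prime_card hPc
  have hAut : Nat.card (MulAut P) = 2 ^ k := by
    rw [IsCyclic.card_mulAut, hPc, Nat.totient_prime hr, hk]; rfl
  have hφk : φ ^ 2 ^ k = 1 := by rw [← hAut]; exact pow_card_eq_one'
  obtain ⟨j, m, hm, hjm⟩ := Nat.exists_eq_two_pow_mul_odd (orderOf_pos g).ne'
  have hpow : ∀ n : ℕ, ∀ y : P, (((φ ^ n) y : P) : G) = g ^ n * (y : G) * (g ^ n)⁻¹ := by
    intro n
    induction n with
    | zero => intro y; simp
    | succ n ih =>
      intro y
      rw [pow_succ', MulAut.mul_apply, hφ, ih, pow_succ']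
      group
  refine hasReal_of_act (R := (P : Subgroup G)) (t := g ^ m) P.isPGroup' ⟨j, ?_⟩ ?_ ?_
  · rw [orderOf_pow_of_dvd (by rintro rfl; simp at hm) (by rw [hjm]; exact Dvd.intro_left _ rfl), hjm]
    exact Nat.mul_div_cancel _ hm.pos
  · intro y hy
    rw [← hpow m ⟨y, hy⟩]
    exact ((φ ^ m) ⟨y, hy⟩).2
  · by_contra hno
    push Not at hno
    have hm1 : φ ^ m = 1 := by
      ext y
      rw [hpow, MulAut.one_apply]
      exact hno _ y.2
    have hco : Nat.Coprime (2 ^ k) m := Nat.Coprime.pow_left _ (Nat.coprime_two_left.2 hm)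
    have h1 : φ = 1 := by
      have := pow_gcd_eq_one.2 ⟨hφk, hm1⟩
      rwa [hco.gcd_eq_one, pow_one] at this
    apply hgC
    rw [mem_centralizer_iff]
    intro y hy
    have := hφ ⟨y, hy⟩
    rw [h1, MulAut.one_apply] at this
    exact (eq_mul_inv_iff_mul_eq.1 this)

theorem P1.fermat {G : Type*} [Group G] [Finite G] [IsSimpleGroup G] {r k : ℕ} (hr : r.Prime) (hr2 : r ≠ 2)
    (hk : r = 2 ^ k + 1) (h1 : r ∣ Nat.card G) (h2 : ¬ r ^ 2 ∣ Nat.card G) (hG : Nat.card G ≠ r) :
    P1 G :=
  P1.of_hasReal hr hr2 h2 (hasReal_fermat hr hk h1 h2 hG)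

end Cfsg.Agent.H661.Spor
end

-- part: H661/SporCount
section
set_option linter.all false
open scoped Cfsg.Agent.FastGrp

/-!
# Real elements of prime order from the order of the group

* `hasReal_coprime`: `G` simple, `r ∥ |G|`, `r - 1 = 2^k m` with `m` prime to `|G|`: a real element of order `r`;
* `hasReal_count`: `r ∥ |G|` and `|G| / r` not congruent to `c e` for `c` the order of a complement of a Sylow
  `r`-subgroup in its centralizer and `e` odd dividing `r - 1`.
-/

set_option autoImplicit false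

namespace Cfsg.Agent.H661.Spor

open Subgroup H722.RealP

/-- `G` simple, `r ∥ |G|`, `r - 1 = 2^k m` with `m` odd prime to `|G|`. -/
theorem hasReal_coprime {G : Type*} [Group G] [Finite G] [IsSimpleGroup G] {r k m : ℕ} (hr : r.Prime)
    (hk : r = 2 ^ k * m + 1) (hm : m.Coprime (Nat.card G)) (h1 : r ∣ Nat.card G)
    (h2 : ¬ r ^ 2 ∣ Nat.card G) (hG : Nat.card G ≠ r) : HasReal r G := by
  have : Fact r.Prime := ⟨hr⟩
  obtain ⟨P⟩ : Nonempty (Sylow r G) := inferInstance
  have hPc : Nat.card P = r := card_sylow_eq P h1 h2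
  obtain ⟨g, hgN, hgC⟩ := exists_not_centralizer P h1 (by rwa [hPc])
  let φ : MulAut P := normalizerMonoidHom (P : Subgroup G) ⟨g, hgN⟩
  have hφ : ∀ y : P, ((φ y : P) : G) = g * (y : G) * g⁻¹ := fun y => rfl
  have : IsCyclic P := isCyclic_of_prime_card hPc
  have hAut : Nat.card (MulAut P) = 2 ^ k * m := by
    rw [IsCyclic.card_mulAut, hPc, Nat.totient_prime hr, hk]; rfl
  have hφ1 : φ ^ (2 ^ k * m) = 1 := by rw [← hAut]; exact pow_card_eq_one'
  have hg1 : φ ^ Nat.card G = 1 := by
    have : φ ^ Nat.card G = normalizerMonoidHom (P : Subgroup G) (⟨g, hgN⟩ ^ Nat.card G) := (map_pow _ _ _).symm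
    rw [this]
    have h3 : (⟨g, hgN⟩ : normalizer ((P : Subgroup G) : Set G)) ^ Nat.card G = 1 :=
      Subtype.ext pow_card_eq_one'
    rw [h3, map_one]
  have hφk : φ ^ 2 ^ k = 1 := by
    have hd : orderOf φ ∣ 2 ^ k * m := orderOf_dvd_of_pow_eq_one hφ1
    have hd2 : orderOf φ ∣ Nat.card G := orderOf_dvd_of_pow_eq_one hg1
    exact orderOf_dvd_iff_pow_eq_one.1
      ((Nat.Coprime.coprime_dvd_left hd2 hm.symm).dvd_of_dvd_mul_right hd)
  obtain ⟨j, n, hn, hjn⟩ := Nat.exists_eq_two_pow_mul_odd (orderOf_pos g).ne'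
  have hpow : ∀ n : ℕ, ∀ y : P, (((φ ^ n) y : P) : G) = g ^ n * (y : G) * (g ^ n)⁻¹ := by
    intro n
    induction n with
    | zero => intro y; simp
    | succ n ih =>
      intro y
      rw [pow_succ', MulAut.mul_apply, hφ, ih, pow_succ']
      group
  refine hasReal_of_act (R := (P : Subgroup G)) (t := g ^ n) P.isPGroup' ⟨j, ?_⟩ ?_ ?_
  · rw [orderOf_pow_of_dvd (by rintro rfl; simp at hn) (by rw [hjn]; exact Dvd.intro_left _ rfl), hjn]
    exact Nat.mul_div_cancel _ hn.pos
  · intro y hy
    rw [← hpow n ⟨y, hy⟩]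
    exact ((φ ^ n) ⟨y, hy⟩).2
  · by_contra hno
    push Not at hno
    have hm1 : φ ^ n = 1 := by
      ext y
      rw [hpow, MulAut.one_apply]
      exact hno _ y.2
    have hco : Nat.Coprime (2 ^ k) n := Nat.Coprime.pow_left _ (Nat.coprime_two_left.2 hn)
    have h1 : φ = 1 := by
      have := pow_gcd_eq_one.2 ⟨hφk, hm1⟩
      rwa [hco.gcd_eq_one, pow_one] at this
    apply hgC
    rw [mem_centralizer_iff]
    intro y hy
    have := hφ ⟨y, hy⟩
    rw [h1, MulAut.one_apply] at this
    exact (eq_mul_inv_iff_mul_eq.1 this)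

/-- If no element of order `r` is real, the index of the centralizer of an `r`-subgroup in its normalizer is
odd. -/
theorem odd_relIndex {G : Type*} [Group G] [Finite G] {r : ℕ} [Fact r.Prime] {R : Subgroup G}
    (hR : IsPGroup r R) (hno : ¬ HasReal r G) :
    Odd ((centralizer (R : Set G)).relIndex (normalizer (R : Set G))) := by
  rw [← Nat.not_even_iff_odd]
  intro hev
  have hle : centralizer (R : Set G) ≤ normalizer (R : Set G) := Subgroup.centralizer_le_normalizer _
  let N := normalizer (R : Set G)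
  let C : Subgroup N := (centralizer (R : Set G)).subgroupOf N
  have hC : C = (normalizerMonoidHom R).ker := by
    ext x
    rw [MonoidHom.mem_ker, mem_subgroupOf, mem_centralizer_iff]
    constructor
    · intro h
      ext y
      show (x : G) * (y : G) * (x : G)⁻¹ = y
      rw [← h y y.2, mul_inv_cancel_right]
    · intro h y hy
      have h1 := congrArg (fun f : MulAut R => ((f ⟨y, hy⟩ : R) : G)) h
      have h2 : (x : G) * y * (x : G)⁻¹ = y := h1
      exact (mul_inv_eq_iff_eq_mul.1 h2).symm
  have hn : C.Normal := by rw [hC]; exact MonoidHom.normal_ker _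
  have h2 : 2 ∣ Nat.card (N ⧸ C) := by
    rw [← index_eq_card]
    exact hev.two_dvd
  have : Fact (Nat.Prime 2) := ⟨Nat.prime_two⟩
  obtain ⟨q, hq⟩ := exists_prime_orderOf_dvd_card' 2 h2
  obtain ⟨g, rfl⟩ := QuotientGroup.mk'_surjective C q
  obtain ⟨j, n, hn, hjn⟩ := Nat.exists_eq_two_pow_mul_odd (orderOf_pos g).ne'
  apply hno
  refine hasReal_of_act (R := R) (t := ((g ^ n : N) : G)) hR ⟨j, ?_⟩ ?_ ?_
  · rw [Subgroup.orderOf_coe, orderOf_pow_of_dvd (by rintro rfl; simp at hn)
      (by rw [hjn]; exact Dvd.intro_left _ rfl), hjn]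
    exact Nat.mul_div_cancel _ hn.pos
  · intro y hy
    exact (mem_normalizer_iff.1 (g ^ n).2 y).1 hy
  · by_contra hno
    push Not at hno
    have h3 : g ^ n ∈ C := by
      rw [mem_subgroupOf, mem_centralizer_iff]
      intro y hy
      exact (mul_inv_eq_iff_eq_mul.1 (hno y hy)).symm
    have h4 : (QuotientGroup.mk' C g) ^ n = 1 := by
      rw [← map_pow]
      exact (QuotientGroup.eq_one_iff _).2 h3
    have h5 := orderOf_dvd_of_pow_eq_one h4
    rw [hq] at h5
    exact (Nat.not_even_iff_odd.2 hn) (even_iff_two_dvd.2 h5)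

/-- **The count.** `r ∥ |G|`, `c = |C(P)| / r`, `e = |N(P) : C(P)|`, `n` the number of Sylow `r`-subgroups. -/
theorem hasReal_count {G : Type*} [Group G] [Finite G] {r : ℕ} (hr : r.Prime) (h1 : r ∣ Nat.card G)
    (h2 : ¬ r ^ 2 ∣ Nat.card G)
    (hc : ∀ (P : Sylow r G) (c e n : ℕ), Nat.card P = r →
      Nat.card (centralizer ((P : Subgroup G) : Set G)) = r * c → Odd e → e ∣ r - 1 →
      n ≡ 1 [MOD r] → n * (e * (r * c)) = Nat.card G → False) : HasReal r G := by
  have : Fact r.Prime := ⟨hr⟩
  by_contra hno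
  obtain ⟨P⟩ : Nonempty (Sylow r G) := inferInstance
  have hP : Nat.card P = r := card_sylow_eq P h1 h2
  have hcyc : IsCyclic P := isCyclic_of_prime_card hP
  have hPC : (P : Subgroup G) ≤ centralizer ((P : Subgroup G) : Set G) := by
    rw [Subgroup.le_centralizer_iff_isMulCommutative]
    exact IsCyclic.isMulCommutative
  obtain ⟨c, hc0⟩ : r ∣ Nat.card (centralizer ((P : Subgroup G) : Set G)) := by
    have := Subgroup.card_dvd_of_le hPC
    rwa [hP] at this
  have hCN : centralizer ((P : Subgroup G) : Set G) ≤ normalizer ((P : Subgroup G) : Set G) :=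
    Subgroup.centralizer_le_normalizer _
  have he := odd_relIndex P.isPGroup' hno
  have he2 := Cfsg.Agent.J2Type.SylowSeven.relIndex_dvd_of_card_prime (P : Subgroup G) hr hP
  have hn := card_sylow_modEq_one r G
  refine hc P c _ (Nat.card (Sylow r G)) hP hc0 he he2 hn ?_
  have h3 : Nat.card (Sylow r G) = (normalizer ((P : Subgroup G) : Set G)).index :=
    Sylow.card_eq_index_normalizer P
  have h4 : (centralizer ((P : Subgroup G) : Set G)).relIndex (normalizer ((P : Subgroup G) : Set G)) *
      Nat.card (centralizer ((P : Subgroup G) : Set G)) = Nat.card (normalizer ((P : Subgroup G) : Set G)) := by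
    rw [mul_comm]
    exact Cfsg.Agent.J2Type.SylowSeven.card_mul_relIndex' hCN
  rw [← hc0, h4, h3, mul_comm]
  exact Subgroup.card_mul_index _

/-- An element of order 13 centralizes every normal 2-subgroup of order at most `2 ^ 11`. -/
theorem commute_of_small {N : Type*} [Group N] [Finite N] {O : Subgroup N} [O.Normal] {m : ℕ}
    (hm : Nat.card O = 2 ^ m) (h11 : m ≤ 11) {x : N} (hx : orderOf x = 13) : ∀ o ∈ O, x * o = o * x := by
  have : Fact (Nat.Prime 13) := ⟨by norm_num⟩
  have : Fact (Nat.Prime 2) := ⟨Nat.prime_two⟩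
  let f : zpowers x →* MulAut O := (MulAut.conjNormal (H := O)).comp (zpowers x).subtype
  let act : MulAction (zpowers x) O := MulAction.compHom O f
  have hx13 : IsPGroup 13 (zpowers x) := IsPGroup.of_card (n := 1) (by rw [Nat.card_zpowers, hx, pow_one])
  have hmod := hx13.card_modEq_card_fixedPoints O
  have hsm : ∀ (g : zpowers x) (o : O), ((g • o : O) : N) = (g : N) * (o : N) * (g : N)⁻¹ := fun g o => rfl
  let F : Subgroup O := (centralizer ({x} : Set N)).subgroupOf O
  have hF : (F : Set O) = MulAction.fixedPoints (zpowers x) O := by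
    ext o
    rw [MulAction.mem_fixedPoints]
    constructor
    · intro ho g
      have h1 : (o : N) ∈ centralizer ({x} : Set N) := ho
      rw [mem_centralizer_singleton_iff] at h1
      apply Subtype.ext
      rw [hsm]
      obtain ⟨k, hk⟩ := mem_zpowers_iff.1 g.2
      have h2 : Commute (x ^ k) (o : N) := Commute.zpow_left (Commute.symm h1) k
      rw [← hk, h2.eq, mul_inv_cancel_right]
    · intro ho
      have h1 := congrArg Subtype.val (ho ⟨x, mem_zpowers x⟩)
      rw [hsm] at h1
      show (o : N) ∈ centralizer ({x} : Set N)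
      rw [mem_centralizer_singleton_iff]
      exact (mul_inv_eq_iff_eq_mul.1 h1).symm
  have hFc : Nat.card (MulAction.fixedPoints (zpowers x) O) = Nat.card F := by
    rw [← hF]; rfl
  obtain ⟨k, hkm, hk⟩ := (Nat.dvd_prime_pow Nat.prime_two).1 (hm ▸ Subgroup.card_subgroup_dvd_card F)
  rw [hFc, hk, hm] at hmod
  have hkm' : k = m := by
    have h12 : k ≤ 11 := hkm.trans h11
    interval_cases m <;> interval_cases k <;> first | rfl | (exfalso; revert hmod; decide)
  have htop : F = ⊤ := by
    apply Subgroup.eq_top_of_card_eq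
    rw [hk, hkm', hm]
  intro o ho
  have h1 : (⟨o, ho⟩ : O) ∈ F := by rw [htop]; exact mem_top _
  have h2 : o ∈ centralizer ({x} : Set N) := h1
  rw [mem_centralizer_singleton_iff] at h2
  exact h2.symm

end Cfsg.Agent.H661.Spor
end

-- part: H661/SporTools
section
set_option linter.all false
open scoped Cfsg.Agent.FastGrp

/-!
# Transport of real elements of odd prime order
-/

set_option autoImplicit false

namespace Cfsg.Agent.H661.Spor

open Subgroup H722.RealP

/-- Real elements of odd prime order in the quotient of a subgroup. -/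
theorem HasReal_of_quot {G : Type*} [Group G] [Finite G] {p : ℕ} (hp : p.Prime) (hp2 : p ≠ 2)
    {H : Subgroup G} (N : Subgroup H) [N.Normal] {Y : Type*} [Group Y] (e : H ⧸ N ≃* Y) (h : HasReal p Y) :
    HasReal p G := by
  have : Fact p.Prime := ⟨hp⟩
  exact ((h.map_equiv e.symm).of_quotient hp2).of_subgroup

theorem HasReal_of_cover {G : Type*} [Group G] [Finite G] {p : ℕ} (hp : p.Prime) (hp2 : p ≠ 2)
    {H : Subgroup G} {Y : Type*} [Group Y] (hc : Cfsg.IsNonsplitDoubleCover H Y) (h : HasReal p Y) :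
    HasReal p G := by
  obtain ⟨-, ⟨e⟩, -⟩ := hc
  exact HasReal_of_quot hp hp2 _ e h


/-- Two involutions with product of odd prime order. -/
theorem HasReal_of_dihedral {G : Type*} [Group G] {p : ℕ} (hp : p.Prime) {s t : G} (hs : s * s = 1)
    (ht : t * t = 1) (h : (s * t) ^ p = 1) (h1 : s * t ≠ 1) : HasReal p G := by
  have : Fact p.Prime := ⟨hp⟩
  refine ⟨s * t, s, orderOf_eq_prime h h1, ?_, ?_⟩
  · have : orderOf s ∣ 2 ^ 1 := orderOf_dvd_of_pow_eq_one (by rw [pow_one, pow_two, hs])
    obtain ⟨i, -, hi⟩ := (Nat.dvd_prime_pow Nat.prime_two).1 this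
    exact ⟨i, hi⟩
  · have hs' : s⁻¹ = s := inv_eq_of_mul_eq_one_right hs
    have ht' : t⁻¹ = t := inv_eq_of_mul_eq_one_right ht
    rw [mul_inv_rev, hs', ht']
    calc s * (s * t) * s = (s * s) * t * s := by group
      _ = t * s := by rw [hs, one_mul]

end Cfsg.Agent.H661.Spor
end

-- part: H661/SporAlt
section
set_option linter.all false
open scoped Cfsg.Agent.FastGrp

/-!
# Real elements of order 7 in alternating groups of degree at least 9, and sections
-/

set_option autoImplicit false

namespace Cfsg.Agent.H661.Spor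

open Subgroup H722.RealP Equiv Equiv.Perm

namespace Alt

/-- a 7-cycle -/
def x9 : Perm (Fin 9) := c[0, 1, 2, 3, 4, 5, 6]
/-- an even involution inverting it -/
def t9 : Perm (Fin 9) := swap 1 6 * swap 2 5 * swap 3 4 * swap 7 8

theorem x9_pow : x9 ^ 7 = 1 := by decide +kernel
theorem x9_ne : x9 ≠ 1 := by decide +kernel
theorem t9_sq : t9 ^ 2 = 1 := by decide +kernel
theorem t9_ne : t9 ≠ 1 := by decide +kernel
theorem conj9 : t9 * x9 * t9⁻¹ = x9⁻¹ := by decide +kernel

theorem sign_x9 : sign x9 = 1 := by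
  have h := congrArg sign x9_pow
  rw [map_pow, map_one] at h
  rcases Int.units_eq_one_or (sign x9) with h1 | h1
  · exact h1
  · rw [h1] at h
    exact absurd h (by decide)

theorem sign_t9 : sign t9 = 1 := by
  rw [t9, map_mul, map_mul, map_mul, sign_swap (by decide), sign_swap (by decide), sign_swap (by decide),
    sign_swap (by decide)]
  decide

theorem hasReal_nine : HasReal 7 (alternatingGroup (Fin 9)) := by
  have : Fact (Nat.Prime 7) := ⟨by norm_num⟩
  refine ⟨⟨x9, mem_alternatingGroup.2 sign_x9⟩, ⟨t9, mem_alternatingGroup.2 sign_t9⟩, ?_, ⟨1, ?_⟩, ?_⟩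
  · rw [Subgroup.orderOf_mk]
    exact orderOf_eq_prime x9_pow x9_ne
  · rw [Subgroup.orderOf_mk, pow_one]
    exact orderOf_eq_prime t9_sq t9_ne
  · exact Subtype.ext conj9

/-- The alternating group of degree `n ≥ 9` has a real element of order 7. -/
theorem hasReal_alt {n : ℕ} (hn : 9 ≤ n) : HasReal 7 (alternatingGroup (Fin n)) := by
  classical
  let e : Fin 9 ≃ {i : Fin n // i ∈ Set.range (Fin.castLE hn)} :=
    Equiv.ofInjective _ (Fin.castLE_injective hn)
  let f : Perm (Fin 9) →* Perm (Fin n) := Equiv.Perm.extendDomainHom e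
  have hf : Function.Injective f := Equiv.Perm.extendDomainHom_injective e
  have hs : ∀ g : Perm (Fin 9), sign (f g) = sign g := fun g => Equiv.Perm.sign_extendDomain g e
  let F : alternatingGroup (Fin 9) →* alternatingGroup (Fin n) :=
    (f.comp (alternatingGroup (Fin 9)).subtype).codRestrict (alternatingGroup (Fin n)) (fun g => by
      rw [mem_alternatingGroup, MonoidHom.comp_apply, hs]
      exact mem_alternatingGroup.1 g.2)
  refine hasReal_nine.map_injective F ?_
  intro a b hab
  apply Subtype.ext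
  apply hf
  exact congrArg Subtype.val hab

end Alt

end Cfsg.Agent.H661.Spor

private theorem dce_df66fe08502b : _root_.True := by
  try have : _root_.True := by simp only [_root_.Cfsg.Agent.H661.Spor.Alt.t9.eq_1]
  exact _root_.True.intro
end
end
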