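import Cfsg.Agent.H661.SporCount_m3
import Cfsg.Agent.H603.SporElim
import Cfsg.Agent.Th.Final
import Cfsg.Agent.Th.D4Main
import Cfsg.Agent.Prune
set_option linter.all false
open scoped Cfsg.Agent.FastGrp

/-!
# `Th`: a real element of order 13, from the permutations of degree 819 of `³D₄(2)`
-/

set_option autoImplicit false

namespace Cfsg.Agent.H661.Spor

open Subgroup H722.RealP Cfsg.Agent.NotCT

namespace Th

open Cfsg.Agent.Th.Base Cfsg.Agent.Th.Word Cfsg.Agent.Th.PermTab Cfsg.Agent.Th.KOracle Cfsg.Agent.Th.D4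
  Cfsg.Agent.Th.D4Perm

/-- a conjugate of the generator `d` -/
def w : List ℕ := [5, 6, 5, 3, 4, 2, 3, 4, 3, 2, 4, 3, 5, 7, 5]

def v : List ℕ := 4 :: w

def rp (L : List ℕ) (k : ℕ) : List ℕ := Nat.rec [] (fun _ ih => L ++ ih) k

theorem ev_rp {G : Type*} [Group G] (γ : ℕ → G) (L : List ℕ) (k : ℕ) : ev γ (rp L k) = ev γ L ^ k := by
  induction k with
  | zero => rw [pow_zero]; rfl
  | succ k ih =>
    rw [show rp L (k + 1) = L ++ rp L k from rfl, ev_append, ih, pow_succ']

theorem isK_rp : ∀ x ∈ rp v 13, isK x = true := by decide +kernel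

/-- the values of the word `w`, packed -/
private noncomputable def h11N : ℕ := nat_lit 0x19b4b2ac9e4503fea091d155c83a88b0d591ef179fe6fd6fa700458f0a0fcf3aa209a995930eb30545da866b1c5c2c98dd08f1c358244e1f985c7c46de40aa27664ab1e029366ba29608bbe96ae08810cd76b25cbdc807c85402a601107e584f614928a394a2e59fa219177c1265d664fa301e6147d62d83a724963d6123f691e9406caa4645a62481082d70c3324c11881a798abc3f2fa722f5a4dcd02c72c529d01d438c485a7f30520955a31992f179d52aa8e6fc472cab497acb1f4788d266c71cef60746eade83b25ec12ee3a34486418c8eadf189492e9e6a49ed4e9765196c155b68f846cbd7a2a1e1a954462ad25f162a89134a5d6c410f401ab171d056a29762bd49eea7145661af061e1382826470dc3c4497b9dd499067d1717ae38a9e4a682c6cae42b21f76164636890b3a7bb41472ee8975e4c2c9aa469b22cd8fabed844545b521d8317599083c017b2fe1e3d727546bf1d2248b10475194249f3c145a17ed69684d5a96d13ad35ba2b4ce59c62f84f4fd6593b5e4f81fd784f3225d057655e5c19c091169b564f862ed2f553c9253a0a9093441b313952e847eb023c87d9d9bab7447948c61a4b473a638e66c1be1b2d8b068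a666c1d9ad9226dc77482b921ca997c09b0f0e4ddf8c84fe270a06c5e018d9272e7c37c396ce346edcf1656b54af19a2363e534af9a630acd669d168649b8188600a7cc9a3bfcedb6e057ee1a64db8b7a8b8c83755e8a0a2736259e96e5d90ecf60d776059d2b4a23827189a7880e0060a808a9fd13329938d8c820d8427e6ba117daa903ada0bb25c7670b9c173402c0d8d44be65c5825634913e84f7c1ad8843e47c6626ca479ee2a1aab8f27f8ba74ac034490af23ed981dff812817a3077044a161a882c823ec9d56cc41933140ea49b6e498651b4541475cc485c953e9b48e57c0e352307a41d16ca90c9b9128bc7b9a8c5195144080d4248645e501c21c4ad0bb2e69cb5be81abb4c5556a602182e688cbcc69e3954143243d6601f39868060d20f0eb008cc000cb28d7d6d4dec325626a41bed70bcb090c95c338e80d55f1b0d3078e4388163bc6a301dc4392ec55a516cc7894be7c4f48ee85b8451041d3071da8ce372c5d25003b5fc0fbf80671a77670a6be54c3857e0c1bc0146d4c1bd534dba6431a7840aa81bb061955a404fc2ba69192108a14ef471d08ab88b8a132206ee806e878b0444118b5efd7286b1d61fa5eb4c3d0575694278cf1d8c876cea1854e4352d6e68719cf785723c4a67306166bd357f25e9f6ec226e52e32e5520f84973a3d369528c77a7a022e9bcec57a896c6d503b8e72bb286d0386395d34542b08d5260a106965b115e23b01bf18b0325856308c2c13084203b0cda54b52502f004e9580cac4cf008adcb00b72b16742827ad6eb71045ac4aa27f1e00ce5064e3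

private noncomputable def h11T (p : ℕ) : ℕ := Nat.land (Nat.shiftRight h11N (Nat.mul 10 p)) 1023

private noncomputable def h11W (p : ℕ) : ℕ := @Bool.rec (fun _ => ℕ) (tr act w p) (h11T p) (Nat.blt p 819)

private theorem h11T_ok : allB 819 (fun p => Nat.beq (tr act w p) (h11T p)) = true := by decide +kernel

private theorem h11W_eq (p : ℕ) : tr act w p = h11W p := by
  unfold h11W
  cases e : Nat.blt p 819
  · rfl
  · exact Nat.eq_of_beq_eq_true ((allB_iff _ _).1 h11T_ok p (Nat.blt_eq.mp e))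

private noncomputable def h11I (k : ℕ) : ℕ → ℕ := Nat.rec (fun p => p) (fun _ ih p => ih (h11W (act 4 p))) k

private theorem h11I_eq (k : ℕ) : ∀ p, tr act (rp v k) p = h11I k p := by
  induction k with
  | zero => exact fun _ => rfl
  | succ k ih =>
    intro p
    rw [show rp v (k + 1) = v ++ rp v k from rfl, tr_append, ih, show v = 4 :: w from rfl, tr_cons, h11W_eq]
    rfl

theorem chk_w : allB 819 (fun p => Nat.beq (tr act (w ++ w) p) p) = true := by
  rw [show (fun p => Nat.beq (tr act (w ++ w) p) p) = fun p => Nat.beq (h11W (h11W p)) p from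
    funext fun p => by rw [tr_append, h11W_eq, h11W_eq]]
  decide +kernel
theorem chk_s : allB 819 (fun p => Nat.beq (tr act [4, 4] p) p) = true := by decide +kernel
theorem chk_v : allB 819 (fun p => Nat.beq (tr act (rp v 13) p) p) = true := by
  rw [show (fun p => Nat.beq (tr act (rp v 13) p) p) = fun p => Nat.beq (h11I 13 p) p from
    funext fun p => by rw [h11I_eq]]
  decide +kernel
theorem ne_v : Nat.beq (tr act v 0) 0 = false := by decide +kernel

theorem r_mem {x : ℕ} (h1 : 1 ≤ x) (h7 : x ≤ 7) : r x ∈ PL := by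
  have i7 : r 7 = (r 6)⁻¹ := rho_invCompat isTab 6
  have h : ∀ y ∈ ({r 1, r 2, r 3, r 4, r 5, r 6} : Set (Equiv.Perm (Fin 819))), y ∈ PL :=
    fun y hy => Subgroup.subset_closure hy
  interval_cases x
  · exact h _ (by simp)
  · exact h _ (by simp)
  · exact h _ (by simp)
  · exact h _ (by simp)
  · exact h _ (by simp)
  · exact h _ (by simp)
  · rw [i7]; exact Subgroup.inv_mem _ (h _ (by simp))

theorem ev_mem {L : List ℕ} (hL : ∀ x ∈ L, 1 ≤ x ∧ x ≤ 7) : ev (rho isTab) L ∈ PL := by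
  induction L with
  | nil => exact one_mem _
  | cons x L ih =>
    rw [ev_cons]
    exact mul_mem (r_mem (hL x List.mem_cons_self).1 (hL x List.mem_cons_self).2)
      (ih fun y hy => hL y (List.mem_cons_of_mem _ hy))

theorem eq_one {L : List ℕ} (hK : ∀ x ∈ L, isK x = true)
    (h : allB 819 (fun p => Nat.beq (tr act L p) p) = true) : ev (rho isTab) L = 1 :=
  ev_rho_eq_one isTab hK fun p hp => Nat.beq_eq.mp ((allB_iff _ _).1 h p hp)

theorem hasReal_PL : HasReal 13 PL := by
  refine HasReal_of_dihedral (by norm_num) (s := ⟨ev (rho isTab) [4], ev_mem (by decide)⟩)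
    (t := ⟨ev (rho isTab) w, ev_mem (by decide)⟩) ?_ ?_ ?_ ?_
  · apply Subtype.ext
    show ev (rho isTab) [4] * ev (rho isTab) [4] = 1
    rw [← ev_append]
    exact eq_one (by decide) chk_s
  · apply Subtype.ext
    show ev (rho isTab) w * ev (rho isTab) w = 1
    rw [← ev_append]
    exact eq_one (by decide) chk_w
  · apply Subtype.ext
    show (ev (rho isTab) [4] * ev (rho isTab) w) ^ 13 = 1
    rw [← ev_append]
    show ev (rho isTab) v ^ 13 = 1
    rw [← ev_rp]
    exact eq_one isK_rp chk_v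
  · intro h
    have h1 : ev (rho isTab) [4] * ev (rho isTab) w = 1 := congrArg Subtype.val h
    rw [← ev_append] at h1
    have h2 := ev_rho_inv_apply isTab (w := v) (by decide) (0 : Fin 819)
    rw [show ev (rho isTab) v = 1 from h1, inv_one] at h2
    exact Nat.ne_of_beq_eq_false ne_v h2.symm

theorem hasReal : HasReal 13 Cfsg.Spor.Th := by
  have hc : Nat.card (Subgroup.closure ({Cfsg.Agent.Th.IndexUpper.gTh 1, Cfsg.Agent.Th.IndexUpper.gTh 2,
      Cfsg.Agent.Th.IndexUpper.gTh 3, Cfsg.Agent.Th.IndexUpper.gTh 4, Cfsg.Agent.Th.IndexUpper.gTh 5,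
      Cfsg.Agent.Th.IndexUpper.gTh 6, Cfsg.Agent.Th.IndexUpper.gTh 8} : Set Cfsg.Spor.Th)) = 634023936 := by
    rw [← sub_isK_eq Cfsg.Agent.Th.IndexUpper.gTh_inv]
    exact Cfsg.Agent.Th.Final.main.2.2.1
  obtain ⟨e⟩ := Cfsg.Agent.Th.D4Main.equiv_PL Cfsg.Agent.Th.IndexUpper.gTh_relK hc
  exact (hasReal_PL.map_equiv e.symm).of_subgroup

end Th

theorem th {S : Type*} [Group S] (h : Cfsg.Spor.IsoTh S) : P1 S := by
  have hc := Orders.th h
  obtain ⟨e⟩ := h
  exact P1.of_hasReal (r := 13) (by norm_num) (by norm_num) (by rw [hc]; norm_num)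
    (Th.hasReal.map_equiv e.symm)

end Cfsg.Agent.H661.Spor
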