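import Cfsg.Agent.H661.SporCount_m3
import Cfsg.Agent.H603.SporElim
import Cfsg.Agent.TypeM.FactsLy
import Cfsg.Agent.Prune
set_option linter.all false
prune_inst 0x7f00000000000000000000000000000000000000000000000000000000000000000000000000000000000000000000000000000000000000000000000000000000000000000000000000000000000000003fffffffffffffffffffffffffffbeffbdffffffff
open scoped Cfsg.Agent.FastGrp

/-!
# `Ly`: a real element of order 7, from the involution centralizer `2.A₁₁`
-/

set_option autoImplicit false

namespace Cfsg.Agent.H661.Spor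

open Subgroup H722.RealP Cfsg.Agent.NotCT

theorem hasReal_ly : HasReal 7 Cfsg.Spor.Ly := by
  have : Finite Cfsg.Spor.Ly := Cfsg.Agent.Ly.Setup.finite_ly
  exact HasReal_of_cover (by norm_num) (by norm_num) Cfsg.Agent.TypeM.FactsLy.isNonsplit_ly
    (Alt.hasReal_alt (by norm_num))

theorem ly {S : Type*} [Group S] (h : Cfsg.Spor.IsoLy S) : P1 S := by
  have hc := Orders.ly h
  obtain ⟨e⟩ := h
  exact P1.of_hasReal (r := 7) (by norm_num) (by norm_num) (by rw [hc]; norm_num)
    (hasReal_ly.map_equiv e.symm)

end Cfsg.Agent.H661.Spor
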