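import Cfsg.Agent.H661.SporCount_m3
import Cfsg.Agent.H603.SporElim
import Cfsg.Agent.J2.HundredGens
import Cfsg.Agent.S1619
import Cfsg.Agent.SporRec.R3.SuzLink
import Cfsg.Agent.H661.SporEven
import Cfsg.Agent.H661.SporConway
import Cfsg.Agent.H661.SporHN
import Cfsg.Agent.H661.SporLy
import Cfsg.Agent.H661.SporFi22
import Cfsg.Agent.H661.SporTh
import Cfsg.Agent.H845.CopTits
import Cfsg.Agent.Prune
set_option linter.all false

-- part: H661/SporFermat_mg
section
set_option linter.all false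
open scoped Cfsg.Agent.FastGrp

-- part: H661/SporFermat
section
/-!
# Sporadic groups with a Fermat prime dividing the order once
-/

set_option autoImplicit false

namespace Cfsg.Agent.H661.Spor

open Cfsg.Agent.NotCT

variable {S : Type*} [Group S] [Finite S] [IsSimpleGroup S]

theorem P1.five {n : ℕ} (hn : Nat.card S = n) (h1 : 5 ∣ n) (h2 : ¬ 5 ^ 2 ∣ n) (h3 : n ≠ 5) : P1 S :=
  P1.fermat (r := 5) (k := 2) (by norm_num) (by norm_num) (by norm_num) (hn ▸ h1) (hn ▸ h2) (hn ▸ h3)

theorem P1.seventeen {n : ℕ} (hn : Nat.card S = n) (h1 : 17 ∣ n) (h2 : ¬ 17 ^ 2 ∣ n) (h3 : n ≠ 17) : P1 S :=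
  P1.fermat (r := 17) (k := 4) (by norm_num) (by norm_num) (by norm_num) (hn ▸ h1) (hn ▸ h2) (hn ▸ h3)

theorem m11 (h : Cfsg.Spor.IsoM11 S) : P1 S :=
  P1.five (Orders.m11 h) (by norm_num) (by norm_num) (by norm_num)
theorem m12 (h : Cfsg.Spor.IsoM12 S) : P1 S :=
  P1.five (Orders.m12 h) (by norm_num) (by norm_num) (by norm_num)
theorem m22 (h : Cfsg.Spor.IsoM22 S) : P1 S :=
  P1.five (Orders.m22 h) (by norm_num) (by norm_num) (by norm_num)
theorem m23 (h : Cfsg.Spor.IsoM23 S) : P1 S :=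
  P1.five (Orders.m23 h) (by norm_num) (by norm_num) (by norm_num)
theorem m24 (h : Cfsg.Spor.IsoM24 S) : P1 S :=
  P1.five (Orders.m24 h) (by norm_num) (by norm_num) (by norm_num)
theorem j1 (h : Cfsg.Spor.IsoJ1 S) : P1 S :=
  P1.five (Orders.j1 h) (by norm_num) (by norm_num) (by norm_num)
theorem j3 (h : Cfsg.Spor.IsoJ3 S) : P1 S :=
  P1.five (Orders.j3 h) (by norm_num) (by norm_num) (by norm_num)
theorem j4 (h : Cfsg.Spor.IsoJ4 S) : P1 S :=
  P1.five (Orders.j4 h) (by norm_num) (by norm_num) (by norm_num)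
theorem on (h : Cfsg.Spor.IsoON S) : P1 S :=
  P1.five (Orders.on h) (by norm_num) (by norm_num) (by norm_num)
theorem he (h : Cfsg.Spor.IsoHe S) : P1 S :=
  P1.seventeen (Orders.he h) (by norm_num) (by norm_num) (by norm_num)
theorem fi23 (h : Cfsg.Spor.IsoFi23 S) : P1 S :=
  P1.seventeen (Orders.fi23 h) (by norm_num) (by norm_num) (by norm_num)
theorem fi24 (h : Cfsg.Spor.IsoFi24' S) : P1 S :=
  P1.seventeen (Orders.fi24 h) (by norm_num) (by norm_num) (by norm_num)
theorem b (h : Cfsg.Spor.IsoB S) : P1 S :=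
  P1.seventeen (Orders.b h) (by norm_num) (by norm_num) (by norm_num)
theorem m (h : Cfsg.Spor.IsoM S) : P1 S :=
  P1.seventeen (Orders.m h) (by norm_num) (by norm_num) (by norm_num)

end Cfsg.Agent.H661.Spor
end

-- part: H661/SporJ2
section
/-!
# `J2`: a real element of order 7, from the permutations of degree 100
-/

set_option autoImplicit false

namespace Cfsg.Agent.H661.Spor

open Subgroup H722.RealP Cfsg.Agent.NotCT Cfsg.Agent.J2.HundredGens

namespace J2

def w : List ℕ := [2, 3, 4, 1, 2, 3, 1, 0, 1, 2, 3, 2, 1, 0, 1, 3, 2, 1, 4, 3, 2]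

theorem rel_s : pw ([3] ++ [3]) = pw [] := pw_eq (by decide +kernel)
theorem rel_w : pw (w ++ w) = pw [] := pw_eq (by decide +kernel)

def v : List ℕ := [3] ++ w

theorem rel_v : pw (v ++ v ++ v ++ v ++ v ++ v ++ v) = pw [] := pw_eq (by decide +kernel)

theorem ne_v : pw v ≠ 1 := by
  intro h
  have h2 : ((pw v (0 : Fin 100) : Fin 100) : ℕ) = 0 := by rw [h]; rfl
  rw [pw_val] at h2
  revert h2
  decide +kernel

theorem hasReal_G : HasReal 7 Cfsg.Agent.SporadicA.J2Hundred.G := by
  refine HasReal_of_dihedral (by norm_num) (s := ⟨pw [3], pw_mem _⟩) (t := ⟨pw w, pw_mem _⟩) ?_ ?_ ?_ ?_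
  · apply Subtype.ext
    show pw [3] * pw [3] = 1
    rw [pw_mul, rel_s, pw_nil]
  · apply Subtype.ext
    show pw w * pw w = 1
    rw [pw_mul, rel_w, pw_nil]
  · apply Subtype.ext
    show (pw [3] * pw w) ^ 7 = 1
    rw [pw_mul]
    show pw v ^ 7 = 1
    have := rel_v
    simp only [pw_append, pw_nil] at this
    rw [← this]
    simp only [pow_succ, pow_zero, one_mul]
  · intro h
    exact ne_v (congrArg Subtype.val h)

theorem hasReal : HasReal 7 Cfsg.Spor.J2 := by
  obtain ⟨e⟩ := J2_iso Cfsg.Agent.S1619.result.2.2.2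
  exact hasReal_G.map_equiv e.symm

end J2

theorem j2 {S : Type*} [Group S] (h : Cfsg.Spor.IsoJ2 S) : P1 S := by
  have hc := Orders.j2 h
  obtain ⟨e⟩ := h
  exact P1.of_hasReal (r := 7) (by norm_num) (by norm_num) (by rw [hc]; norm_num)
    (J2.hasReal.map_equiv e.symm)

end Cfsg.Agent.H661.Spor
end

-- part: H661/SporSuz
section
/-!
# `Suz`: a real element of order 7, from the permutations of degree 1782
-/

set_option autoImplicit false

namespace Cfsg.Agent.H661.Spor

open Subgroup H722.RealP Cfsg.Agent.NotCT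

namespace Suz

open Cfsg.Agent.SporRec.R3.SuzRel Cfsg.Spor.Suz

/-- an involution of `⟨a, b, c, d, e⟩`, conjugate to `d` -/
def w : List Gen := [.c, .d, .e, .b, .c, .d, .b, .a, .b, .c, .d, .c, .b, .a, .b, .d, .c, .b, .e, .d, .c]

/-- the word of an element of order 7 -/
def v : List Gen := .d :: w

/-- the values of the word `w`, packed -/
private noncomputable def h11N : ℕ := nat_lit 0x1a61f68befed041d953b355a4b26b8cb55d36b7d90be6292e0ce6f59b4aeace8e6eb96be69af6a4925fc859db4edba81ea69955a76dedddabd00aa8e720fee788f33d64460837184dcc59c63b7333c21a24b96c8df8dd0e3adc309724f7638dd49327930db16586854f9d494a8f4df0baf98c90d2c64f4069ef6ad1776330589609afac52c7330ce5a4b1252a95cd156de41a69739566368334910761ea2891734ca1c5f3f6dbd0f54b04a96b1bba7b5a466dfdc7a4d821d5882f83323ea8e679f40d86d7a82b0566d540e9330da4b596ef289d8498a4e3aab76b66c1e7d4a89f92f2ec31d40f3236a49ca5209e8611c66e127a4b28d5b5f4623276c71dc0507bc177e98c4b6eda22662b2c8f2575fd74cfea9e264855eb8a9e360c7286fdf1e913bcf0170cd24e3a1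2c7b3dd5b4e6d0bca52e9a9cb2d2582cc724610af2d75e0e28b859974c47cb9ee0a5f4c9b0ebc5fd38382b1f9a8a0db8886ae5eb857724cee2203f6e7e394a4b44759ea2374bb6056d49862e939d652040e9bedae3bc7474e0e2ba81d5169f44a4f130cd16b0cef62228c69c0fa2915355bf2d0602c3e5e9baddddfb3df82e7e373b7edf987566cbdb5273eb5cfa76ef0b976a738d7d4bc404c1976e5fa8edf543b23da1565d966086d7bf0ccb058e94265b28ac473debc3a5c6e9d1b1d036edb75ca13c3ba55e6bd84811912e5d2c079a26a3ae563436f55083e0f234ba5691492b07cd088ca66216309b3b762d265a7931559bfc4fc7a5ccd3b44b6f139c3066d66d5cc274ce9ad4754e3bb2e6d3413714b2d3cecb53d3120237084b571f647a58995354320b573faed544a750310e35f92d765df56fad150f0d2d9866798ea68b9aee8f1cbb365cb373cb0843ba417e4a850a7ca46e864cd0bd995e435d2c676af05934698d2c6d38801dae83a27aee68ca5cf8a56c11b13912b51fd80c78a89672fd69729905ecc7ff51b3f5c1616b4d25c2b9ef3925de459e67e0e6c37934d6a8eb0283d3a956b3eb7294647cf6b64d11d52b844515d5b45e6c9142b9c5da66ec37758558188288d78d8cff5a5635b3aa530238b8d1a8eb7552bace074d2778ef8151d5b09eae42ad4a74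aeaf2013f03759128f5a03b5a3e8527f8f71f59fd2897140a885f0868a234046c4471e51e28f7df3bf57de87434ff1936abedb65b42a89caf7292e753535ed7124687b2031638f4c992a01c868b77fa556089575324f45597ea0f2cbf4cd77c758a445f6b0b26ca05cd90ee84c745cbc9acd8a7dcd9f616c4de73726c2d68ff5c7602179bcb723c3e742db96e8cdaca70b94362dc7176144bc2d8f5de052216a95d7379ec77f72243b468556620a24d9e168d5a4a3a6e7d728564a45138f19ca9f10ee14abdac1036a7c2453eb7b5e3e8d933adeadddd8689b43b273c484affc39ab19e8f03a8da776e1354272711586bb9354e16e4d519032d5423f39fee6a6756cde58058f1e57ee7ace9474800a6d6bcb493718dc654d34f9b14e4208a8bcd40a60c4ae4752e6e39ca2f5948e397b6916d8cb33b8a0ededd4caf954e49caaeeac6e4e6778610857e5d18a4fe1bc6cd12306e2287f4f521379b8af3a042df5f18fe8aa06a616974dcd6d49610e35e547d38512410b2dba4e6662a64a424ba09be4d38d46cadbcffab4a04b69854d9e27817acdf14ba909ad9ab3ed99155d9d31f458c5603646c0181a6163d5d96fad52336f6aa9de27cd9d8dd4c329b80ba531d50d9e7fec91af34925370c918c4f0cd34db5606c9b0a5ba809bb07255caf3ba32ab5d9ae36e6443b667a2fe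b40490e7b6def5a0733776aab35b0f3474e2462ce6e53509533a30e33c796e25a128d5a358d62b34343487096946334bd41322403b45ba59c831bb183b05b50cb0e8d48710fe553262cf146597b18bcfab1c3696371a653aaee61f6f604aae9f68af5a52c64b6b99267149f3b0d19bb418706825298df6c7733b74366f715dc77cd19b0151c4b2c42d6b7f47bb81b93c75c91af5d2e7b2f22710ee47710895fc56d1b7a69c2a47e3173752619f58519baa3543416971feaac6d68dec5b3f4619ad4bd571bb09cd35baf4a144b6bef772b0ce0cb1375ac435adb8d2c1b63470c3274e89690de9e8c90c5cc773dad85a141967e6384754f77be97e5b4abb375c2ea5a874cacb491ce4ba29395759c2277bc75e24ca2b5313693c018eccb5f29c39595ad0f378d3c8beaadd798070988a39aca8d30fa18bc4d7902a6cabd85908a5aabf48eb84836e2c716a3e4db06b2f5d896c09a177ea196f5f1ae6a734a7027359e60779a1c65b9f35eb2634f52522341470d44ef51dd8ba12ead75c9d4832f53a2afbd9654f72726f9901a19fa4f519decb87615734df21451906ab3ba993f37e225f443e9f695d415ef7e8f6a708b114f55228b2105934bc93f3a16fe2ffa03999d06f1bc6ed136b98d3f6bd95d166dcb30febc5be68c107cf23c3bd2191c4d53498da57fb868d50cc407ec7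16b5352cd54d9fc6ae85b05cfbc1135788eaddf5b6d2bf7865c5157bb38535bbcfd590d94b34f7e78ba57b70b148d0bc7ceb4f51f45009d97f252c4c8a57b3c46012cf60b13b266d9651f172ad8a866566d947da3a5e3bf01e45b9d7d6d9529b6b6037559999f340618af9922f85ecc69462ee504b814f30a670b116929a564cc96e2c05c8a8964294678c99432b4548a394e2965b4a499b3345b0b996b32e530a993d2f2628b19952bc630bf17a2f055cc81542ba560ae1882e2644a298b33a5bcb39652a060cc71662d44f8a21682ea608c495b328600c79762fe61cbe942302660b0955308520cb13f280558ba01d0a63506007616a3cc7e01e144068238411ae3ec5f8770182645406d0b0108241221f44902e82c1d82781d0b301620c518c10f22c8279140e20185e05c09633c0204521615c2904c1f02481200e1343906989c1ba3785f13525c48c7b1070a83e4718a526c228758ca1763b81911f1e21f02d07d0662ac5c1021ea23c0887f1583f87f8af19a1444d81525e0845313a2023485b02a21c1946d81803e3c013036160244410ae07e3088c13925a3f4129111de1f8340e50323449b8852384584b0c71b8310330df1cc1e81c1291283547a04a2324cc50890130478081001b240c9509f0c22c4048a70aa418630a01c40a42d8620883c84480d0400e45a0312343143d80a1c02e8740ea1022a88b8502584e02f85e09201c8987007c0dc9406c0b20f0140b90682b4670640c62304b8140ea1d09091011a3a43592721410c498f72764246d07822a0bc0290821e290399252620208608b0ac4989803b1861bc1e86a080474430a90dc320018671ce3b44201c09c08c099200563404706901e3245e90505c0486b0871964d09e0300364c85b8cc0040586c06005a0887089d04e4104412b2362004a8460e44482690d06a05c00800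

private noncomputable def h11T (p : ℕ) : ℕ := Nat.land (Nat.shiftRight h11N (Nat.mul 11 p)) 2047

private noncomputable def h11W (p : ℕ) : ℕ := @Bool.rec (fun _ => ℕ) (h11T p) (tr w p) (Nat.ble 1782 p)

private theorem h11T_ok : allP (fun p => @Bool.rec (fun _ => Bool) (Nat.beq (tr w p) (h11T p)) true (Nat.ble 1782 p))
    11 0 = true := by decide +kernel

private theorem h11W_eq (p : ℕ) : tr w p = h11W p := by
  unfold h11W
  cases e : Nat.ble 1782 p
  · have hp : p < 1782 := Nat.lt_of_not_le fun h => by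
      rw [Nat.ble_eq_true_of_le h] at e
      cases e
    have h := allP_spec _ 11 0 h11T_ok p (Nat.zero_le _) (by omega)
    rw [e] at h
    exact Nat.eq_of_beq_eq_true h
  · rfl

private theorem h11_app (u u' : List Gen) (i : ℕ) : tr (u ++ u') i = tr u (tr u' i) := by
  induction u with
  | nil => rfl
  | cons x u ih => rw [List.cons_append, tr_cons, tr_cons, ih]

private noncomputable def h11V (p : ℕ) : ℕ := app (tab .d) (h11W p)

private theorem h11V_eq (p : ℕ) : tr v p = h11V p := by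
  unfold h11V
  rw [show v = .d :: w from rfl, tr_cons, h11W_eq]

theorem chk_w : chk (w ++ w) = true := by
  unfold chk
  simp only [h11_app, h11W_eq]
  decide +kernel
theorem chk_v : chk (v ++ (v ++ (v ++ (v ++ (v ++ (v ++ v)))))) = true := by
  unfold chk
  simp only [h11_app, h11V_eq]
  decide +kernel

theorem ne_v : Nat.beq (tr v 3) 3 = false := by decide +kernel

/-- the element of `Suz` of a word -/
noncomputable def el (L : List Gen) : Cfsg.Spor.Suz :=
  (L.map fun x => PresentedGroup.of x).prod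

theorem φ_el (L : List Gen) : Cfsg.Agent.SporRec.R3.SuzLink.φ (el L) = (L.map gen).prod := by
  unfold el
  rw [map_list_prod, List.map_map]
  rfl

theorem el_append (L M : List Gen) : el (L ++ M) = el L * el M := by
  unfold el
  rw [List.map_append, List.prod_append]

theorem el_cons (x : Gen) (M : List Gen) : el (x :: M) = el [x] * el M := el_append [x] M

theorem el_eq_one {L : List Gen} (h : chk L = true) : el L = 1 := by
  apply Cfsg.Agent.SporRec.R3.SuzLink.φ_inj
  rw [φ_el, prod_eq_one h, map_one]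

theorem hasReal : HasReal 7 Cfsg.Spor.Suz := by
  refine HasReal_of_dihedral (by norm_num) (s := el [.d]) (t := el w) ?_ ?_ ?_ ?_
  · rw [← el_append]
    exact el_eq_one inv_d
  · rw [← el_append]
    exact el_eq_one chk_w
  · rw [← el_cons]
    have h := el_eq_one chk_v
    simp only [el_append] at h
    show el v ^ 7 = 1
    rw [← h]
    simp only [pow_succ, pow_zero, one_mul, mul_assoc]
  · rw [← el_cons]
    intro h
    have h1 : (v.map gen).prod = 1 := by
      rw [← φ_el, show el v = 1 from h, map_one]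
    have h2 := prod_val v (⟨3, by norm_num⟩ : Fin 1782)
    rw [h1] at h2
    exact Nat.ne_of_beq_eq_false ne_v h2.symm

end Suz

theorem suz {S : Type*} [Group S] (h : Cfsg.Spor.IsoSuz S) : P1 S := by
  have hc := Orders.suz h
  obtain ⟨e⟩ := h
  exact P1.of_hasReal (r := 7) (by norm_num) (by norm_num) (by rw [hc]; norm_num)
    (Suz.hasReal.map_equiv e.symm)

end Cfsg.Agent.H661.Spor
end
end

-- part: H661/SporAll
section
set_option linter.all false

/-!
# Sporadic groups other than `McL`: a real element of an odd prime order `r ∥ |S|`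
-/

set_option autoImplicit false

namespace Cfsg.Agent.H661.Spor

open Subgroup H612.Even

/-- Every sporadic group other than `McL` has a real element of an odd prime order `r ∥ |S|`. -/
theorem sporadic_p1 {S : Type*} [Group S] [Finite S] [IsSimpleGroup S] (h : IsSporadicGroup S) :
    P1 S ∨ Cfsg.Spor.IsoMcL S := by
  rcases h with h | h | h | h | h | h | h | h | h | h | h | h | h | h | h | h | h | h | h | h | h | h | h | h | h | h
  · exact Or.inl (m11 h)
  · exact Or.inl (m12 h)
  · exact Or.inl (m22 h)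
  · exact Or.inl (m23 h)
  · exact Or.inl (m24 h)
  · exact Or.inl (j1 h)
  · exact Or.inl (j2 h)
  · exact Or.inl (j3 h)
  · exact Or.inl (j4 h)
  · exact Or.inl (co1 h)
  · exact Or.inl (co2 h)
  · exact Or.inl (co3 h)
  · exact Or.inr h
  · exact Or.inl (hs h)
  · exact Or.inl (suz h)
  · exact Or.inl (he h)
  · exact Or.inl (ru h)
  · exact Or.inl (on h)
  · exact Or.inl (ly h)
  · exact Or.inl (fi22 h)
  · exact Or.inl (fi23 h)
  · exact Or.inl (fi24 h)
  · exact Or.inl (hn h)
  · exact Or.inl (th h)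
  · exact Or.inl (b h)
  · exact Or.inl (m h)

theorem sporadic_evenOver {S : Type*} [Group S] [Finite S] [IsSimpleGroup S] (h : IsSporadicGroup S) :
    EvenOver S ∨ Cfsg.Spor.IsoMcL S :=
  (sporadic_p1 h).imp_left P1.evenOver

theorem tits_evenOver {S : Type*} [Group S] [Finite S] (h : Cfsg.Lie.IsoTits S) : EvenOver S :=
  (tits h).evenOver

end Cfsg.Agent.H661.Spor
end
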